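import Cfsg.Agent.KFacts.SysFree
import Cfsg.Agent.OddHalf.D4.Free.FiltLine
import Cfsg.Agent.OddHalf.D4.Free.KTwo
import Cfsg.Agent.OddHalf.D7F4.Adapted

/-!
# ODD, D4, (1B): `BFacts K` for `K ≅ F₄(q)`, `q ≥ 4` even

`S` good. In adapted coordinates `f` (`D7F4/Adapted`): `S = f(U) C_S(K) ⟨g⟩`, `g` acts as a field or as a graph-field
automorphism, and `Z(S ∩ K) = f(X_ρ X_σ)`, `ρ` long, `σ` short. An element of `⟨g⟩` acting trivially on `f(X_ρ)`
centralizes `K`: `C_S(Z(S ∩ K)) = f(U) C_S(K)` (`cz_elt`).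

* `Fr`, `exists_fr` : adapted coordinates;
* `bfacts`, `bfacts_of_equiv`.
-/

set_option autoImplicit false
set_option Elab.async false
set_option linter.unusedSectionVars false

namespace Cfsg.Agent.OddHalf.D4.Free.F4.BFac

open CoxeterSystem Cfsg.Agent.ChevalleyStructure.CoxeterGeom Cfsg.Agent.Tits.Roots Cfsg.Agent.Tits.Core
open Cfsg.Lie Cfsg.Agent.ChevalleyStructure Cfsg.Agent.ChevalleyStructure.Elts
  Cfsg.Agent.ChevalleyStructure.RootVec Cfsg.Agent.ChevalleyStructure.CoxeterGeomTypes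
open Cfsg.Agent.Nodes Cfsg.Agent.Nodes.Reps Cfsg.Agent.Nodes.BNOf Cfsg.Agent.Nodes.RGDChev Cfsg.Agent.Nodes.Coroot
  Cfsg.Agent.Nodes.KindF Cfsg.Agent.KFacts.ChevTwo Cfsg.Agent.KFacts.ChevTwoTab
  Cfsg.Agent.KFacts.ChevTwoInst Cfsg.Agent.KFacts.RgdSys Cfsg.Agent.KFacts.RgdGraph
  Cfsg.Agent.KFacts.RgdGraphF4 Cfsg.Agent.KFacts.F4Pair
open Cfsg.Agent.OddHalf.D7F4 Cfsg.Agent.OddHalf.D7F4.Model Cfsg.Agent.OddHalf.D7F4.Adapted
open Cfsg.Agent.OddHalf.D4.Free Cfsg.Agent.KFacts.SysLine Cfsg.Agent.KFacts.SysFlt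
open scoped commutatorElement

universe u

/-! ### Roots -/

/-- the highest root -/
def ρ : Fin 4 → ℤ := ![2, 4, 3, 2]
/-- the highest short root -/
def σ : Fin 4 → ℤ := ![2, 3, 2, 1]

theorem ρ_mem : ρ ∈ rts := by decide +kernel
theorem σ_mem : σ ∈ rts := by decide +kernel
theorem ρσ : ρ ≠ σ := by decide +kernel
theorem dρ : B ρ ρ = 4 ∧ dual ρ = σ := by decide +kernel
theorem dσ : B σ σ = 2 ∧ dual σ = ρ := by decide +kernel
theorem ρ_nonneg : ∀ i, 0 ≤ ρ i := by decide +kernel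
theorem σ_nonneg : ∀ i, 0 ≤ σ i := by decide +kernel

/-- `ρ`, `σ` are dominant -/
theorem dom : ∀ a ∈ rts, (∀ i, 0 ≤ a i) → 0 ≤ B a ρ ∧ 0 ≤ B a σ := by decide +kernel

section Roots

variable {W : Type*} [Group W] (cs : CoxeterSystem CoxeterMatrix.F₄ W)

theorem root_ρ : IsRoot cs isType.isCartan ρ := (KBridge.isRoot_iff' cs).2 ρ_mem
theorem root_σ : IsRoot cs isType.isCartan σ := (KBridge.isRoot_iff' cs).2 σ_mem

theorem pos_ρ : ρ ∈ RGD.Pos cs isType.isCartan := ⟨root_ρ cs, ρ_nonneg⟩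
theorem pos_σ : σ ∈ RGD.Pos cs isType.isCartan := ⟨root_σ cs, σ_nonneg⟩

theorem cpr_nonneg {r a : Fin 4 → ℤ} (hr : r ∈ rts) (ha : a ∈ rts) (h : 0 ≤ B a r) :
    0 ≤ cpr cs isType.isCartan r a := by
  have h1 := KBridge.cpr_eq cs hr ha
  rw [B_symm r a] at h1
  rcases norm a ha with h2 | h2
  · rw [h2] at h1
    omega
  · rw [h2] at h1
    omega

theorem star_ρ : ρ ∈ KFacts.RgdCent.Star cs isType.isCartan (RGD.Pos cs isType.isCartan) := by
  refine ⟨root_ρ cs, fun a ha => ?_⟩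
  have h1 := (KBridge.isRoot_iff' cs).1 ha.1
  exact cpr_nonneg cs ρ_mem h1 (dom a h1 ha.2).1

theorem star_σ : σ ∈ KFacts.RgdCent.Star cs isType.isCartan (RGD.Pos cs isType.isCartan) := by
  refine ⟨root_σ cs, fun a ha => ?_⟩
  have h1 := (KBridge.isRoot_iff' cs).1 ha.1
  exact cpr_nonneg cs σ_mem h1 (dom a h1 ha.2).2

end Roots

variable {F : Type u} [Field F]

/-! ### Field and graph automorphisms in coordinates -/

section Act

variable {G : Type*} [Group G] {f : ↥(chevF4.group F) →* G}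

/-- `d` acts as the field automorphism `φ` -/
def Fld (f : ↥(chevF4.group F) →* G) (d : G) (φ : F ≃+* F) : Prop :=
  ∀ r ∈ rts, ∀ a, d * f (eF F r a) * d⁻¹ = f (eF F r (φ a))

/-- `d` acts as a graph automorphism with `φ` -/
def Gra (f : ↥(chevF4.group F) →* G) (d : G) (φ : F ≃+* F) : Prop :=
  (∀ r ∈ rts, B r r = 4 → ∀ a, d * f (eF F r a) * d⁻¹ = f (eF F (dual r) (φ a))) ∧
    ∀ r ∈ rts, B r r = 2 → ∀ a, d * f (eF F r a) * d⁻¹ = f (eF F (dual r) ((φ a) ^ 2))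

theorem acts_iff {d : G} : Acts f d ↔ (∃ φ, Fld f d φ) ∨ ∃ φ, Gra f d φ := Iff.rfl

theorem Fld.one : Fld f (1 : G) (RingEquiv.refl F) := by
  intro r _ a
  rw [one_mul, inv_one, mul_one]
  rfl

theorem cjm (d e : G) (y : ↥(chevF4.group F)) : d * e * f y * (d * e)⁻¹ = d * (e * f y * e⁻¹) * d⁻¹ := by
  group

theorem Fld.mul {d e : G} {φ ψ : F ≃+* F} (hd : Fld f d φ) (he : Fld f e ψ) : Fld f (d * e) (ψ.trans φ) := by
  intro r hr a
  rw [cjm, he r hr, hd r hr]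
  rfl

theorem Fld.mul_gra {d e : G} {φ ψ : F ≃+* F} (hd : Fld f d φ) (he : Gra f e ψ) : Gra f (d * e) (ψ.trans φ) := by
  refine ⟨fun r hr hB a => ?_, fun r hr hB a => ?_⟩
  · rw [cjm, he.1 r hr hB, hd _ (dual_mem r hr)]
    rfl
  · rw [cjm, he.2 r hr hB, hd _ (dual_mem r hr), map_pow]
    rfl

theorem Gra.mul_fld {d e : G} {φ ψ : F ≃+* F} (hd : Gra f d φ) (he : Fld f e ψ) : Gra f (d * e) (ψ.trans φ) := by
  refine ⟨fun r hr hB a => ?_, fun r hr hB a => ?_⟩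
  · rw [cjm, he r hr, hd.1 r hr hB]
    rfl
  · rw [cjm, he r hr, hd.2 r hr hB]
    rfl

variable [Finite F] [CharP F 2]

theorem Gra.mul {d e : G} {φ ψ : F ≃+* F} (hd : Gra f d φ) (he : Gra f e ψ) : ∃ χ, Fld f (d * e) χ := by
  obtain ⟨fr, hfr, -⟩ := exists_frob (F := F)
  refine ⟨(ψ.trans φ).trans fr, fun r hr a => ?_⟩
  have h2 : ((ψ.trans φ).trans fr) a = (φ (ψ a)) ^ 2 := hfr _
  rw [cjm, h2]
  rcases norm r hr with hB | hB
  · rw [he.2 r hr hB, hd.1 _ (dual_mem r hr) (dn2 r hr hB), dual_dual r hr, map_pow]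
  · rw [he.1 r hr hB, hd.2 _ (dual_mem r hr) (dn4 r hr hB), dual_dual r hr]

theorem acts_mul {d e : G} (hd : Acts f d) (he : Acts f e) : Acts f (d * e) := by
  rw [acts_iff] at *
  rcases hd with ⟨φ, hd⟩ | ⟨φ, hd⟩ <;> rcases he with ⟨ψ, he⟩ | ⟨ψ, he⟩
  · exact Or.inl ⟨_, hd.mul he⟩
  · exact Or.inr ⟨_, hd.mul_gra he⟩
  · exact Or.inr ⟨_, hd.mul_fld he⟩
  · exact Or.inl (hd.mul he)

theorem acts_pow {d : G} (hd : Acts f d) (n : ℕ) : Acts f (d ^ n) := by
  induction n with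
  | zero =>
    rw [pow_zero]
    exact Or.inl ⟨_, Fld.one⟩
  | succ n ih =>
    rw [pow_succ]
    exact acts_mul ih hd

theorem acts_zpow [Finite G] {d : G} (hd : Acts f d) (n : ℤ) : Acts f (d ^ n) := by
  obtain ⟨m, hm⟩ : d ^ n ∈ Submonoid.powers d := (isOfFinOrder_of_finite d).mem_powers_iff_mem_zpowers.2 ⟨n, rfl⟩
  have hm' : d ^ m = d ^ n := hm
  rw [← hm']
  exact acts_pow hd m

end Act

section Elts

variable {W : Type*} [Group W] (cs : CoxeterSystem CoxeterMatrix.F₄ W) [Finite F] [CharP F 2]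

theorem hG1 : RGD.Sup (XF F) {x | IsRoot cs isType.isCartan x} = ⊤ := G1_eq_top isType cs

theorem mem_X {r : Fin 4 → ℤ} (hr : r ∈ rts) (a : F) : eF F r a ∈ XF F r := by
  have hr' := (KBridge.isRoot_iff' CoxeterMatrix.F₄.toCoxeterSystem).2 hr
  have hW : Finite CoxeterMatrix.F₄.Group := finite_W isType CoxeterMatrix.F₄.toCoxeterSystem
  exact (sysF (K := F) CoxeterMatrix.F₄.toCoxeterSystem).mem hr' a

theorem e_inj {r : Fin 4 → ℤ} (hr : r ∈ rts) {a b : F} (h : eF F r a = eF F r b) : a = b :=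
  (sysF (K := F) CoxeterMatrix.F₄.toCoxeterSystem).data.injective
    ((KBridge.isRoot_iff' CoxeterMatrix.F₄.toCoxeterSystem).2 hr) h

theorem e_add {r : Fin 4 → ℤ} (hr : r ∈ rts) (a b : F) : eF F r (a + b) = eF F r a * eF F r b :=
  (sysF (K := F) CoxeterMatrix.F₄.toCoxeterSystem).data.add r
    ((KBridge.isRoot_iff' CoxeterMatrix.F₄.toCoxeterSystem).2 hr) a b

theorem e_sq {r : Fin 4 → ℤ} (hr : r ∈ rts) (a : F) : eF F r a * eF F r a = 1 :=
  (sysF (K := F) CoxeterMatrix.F₄.toCoxeterSystem).data.sq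
    ((KBridge.isRoot_iff' CoxeterMatrix.F₄.toCoxeterSystem).2 hr) a

theorem e_zero {r : Fin 4 → ℤ} (hr : r ∈ rts) : eF F r 0 = 1 := by
  have h1 := e_add hr (0 : F) 0
  rw [add_zero] at h1
  exact (left_eq_mul.1 h1)

theorem e_ne {r : Fin 4 → ℤ} (hr : r ∈ rts) {a : F} (ha : a ≠ 0) : eF F r a ≠ 1 := by
  intro h
  rw [← e_zero hr] at h
  exact ha (e_inj hr h)

/-- different root groups meet trivially -/
theorem e_ind {r s : Fin 4 → ℤ} (hr : r ∈ rts) (hs : s ∈ rts) (hne : r ≠ s) {a b : F} (h : eF F r a = eF F s b) :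
    a = 0 := by
  by_contra ha
  have hW : Finite CoxeterMatrix.F₄.Group := finite_W isType CoxeterMatrix.F₄.toCoxeterSystem
  have h1 := Nodes.OppDec.X_inf_X (rgd (K := F) isType CoxeterMatrix.F₄.toCoxeterSystem 2)
    ((KBridge.isRoot_iff' CoxeterMatrix.F₄.toCoxeterSystem).2 hr)
    ((KBridge.isRoot_iff' CoxeterMatrix.F₄.toCoxeterSystem).2 hs) hne
  rw [Subgroup.eq_bot_iff_forall] at h1
  refine e_ne hr ha (h1 _ ⟨mem_X hr a, ?_⟩)
  rw [h]
  exact mem_X hs b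

variable {G : Type*} [Group G] {f : ↥(chevF4.group F) →* G}

/-- no field part: `d` centralizes `K` -/
theorem comm_of_fld {d : G} {φ : F ≃+* F} (hd : Fld f d φ) (h : ∀ a, φ a = a) :
    d ∈ Subgroup.centralizer (f.range : Set G) := by
  have h1 : (⊤ : Subgroup ↥(chevF4.group F)) ≤ (Subgroup.centralizer ({d} : Set G)).comap f := by
    rw [← hG1 (F := F) CoxeterMatrix.F₄.toCoxeterSystem]
    refine RGD.Sup_le fun x hx y hy => ?_
    obtain ⟨a, rfl⟩ := ((sysF (K := F) CoxeterMatrix.F₄.toCoxeterSystem).mem_X x hx y).1 hy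
    show f (eF F x a) ∈ Subgroup.centralizer ({d} : Set G)
    rw [Subgroup.mem_centralizer_singleton_iff]
    have h2 := hd x ((KBridge.isRoot_iff' _).1 hx) a
    rw [h a] at h2
    calc f (eF F x a) * d = (d * f (eF F x a) * d⁻¹) * d := by rw [h2]
      _ = d * f (eF F x a) := by group
  rw [Subgroup.mem_centralizer_iff]
  rintro _ ⟨y, rfl⟩
  exact Subgroup.mem_centralizer_singleton_iff.1 (h1 (Subgroup.mem_top y))

/-- **An element acting in coordinates and centralizing `f(X_ρ)` centralizes `K`.** -/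
theorem cent_of_comm (hf : Function.Injective f) {d : G} (hd : Acts f d)
    (h : ∀ a : F, f (eF F ρ a) * d = d * f (eF F ρ a)) : d ∈ Subgroup.centralizer (f.range : Set G) := by
  rcases acts_iff.1 hd with ⟨φ, hφ⟩ | ⟨φ, hφ⟩
  · refine comm_of_fld hφ fun a => ?_
    have h1 := hφ ρ ρ_mem a
    rw [← h, mul_inv_cancel_right] at h1
    exact (e_inj ρ_mem (hf h1)).symm
  · exfalso
    have h1 := hφ.1 ρ ρ_mem dρ.1 1
    rw [← h, mul_inv_cancel_right, dρ.2] at h1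
    exact one_ne_zero (e_ind ρ_mem σ_mem ρσ (hf h1))

end Elts

/-! ### Adapted coordinates -/

section Fr

variable [Finite F] [CharP F 2] {G : Type*} [Group G]

/-- the Coxeter system -/
abbrev cF : CoxeterSystem CoxeterMatrix.F₄ CoxeterMatrix.F₄.Group := CoxeterMatrix.F₄.toCoxeterSystem

/-- the unipotent group -/
abbrev UF (F : Type u) [Field F] : Subgroup ↥(chevF4.group F) := RGD.Sup (XF F) (RGD.Pos cF isType.isCartan)

/-- adapted coordinates for `S` -/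
structure Fr (f : ↥(chevF4.group F) →* G) (K₀ S : Subgroup G) (g : G) : Prop where
  std : KFacts.SysFree.Std cF isType.isCartan (XF F) K₀ S f
  gS : g ∈ S
  acts : Acts f g
  gen : ∀ x ∈ S, ∃ m : ℤ, ∃ u ∈ UF F, ∃ c ∈ S, (∀ y, c * f y = f y * c) ∧ x = f u * c * g ^ m

variable [Finite G] {K₀ S : Subgroup G}

theorem exists_fr {f : ↥(chevF4.group F) →* G} (hf : Function.Injective f) (hK : f.range = K₀) (hS : Good K₀ S) :
    ∃ f' g, Fr (F := F) f' K₀ S g := by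
  subst hK
  have hY : Finite ↥(chevF4.group F) := Finite.of_injective f hf
  have hW : Finite CoxeterMatrix.F₄.Group := finite_W isType cF
  obtain ⟨g₀, hg₀⟩ := KFacts.SysFree.exists_std (R := rgd (K := F) isType cF 2) (hG1 cF) hf hS
  obtain ⟨f₁, hf₁⟩ : ∃ f₁, f₁ = f.comp (MulAut.conj g₀).toMonoidHom := ⟨_, rfl⟩
  rw [← hf₁] at hg₀
  have hi : Function.Injective f₁ := by rw [hf₁]; exact hf.comp (MulAut.conj g₀).injective
  have hr : f₁.range = f.range := by rw [hf₁]; exact KFacts.SysFree.range_comp_conj f g₀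
  have hUS : (UF F).map f₁ ≤ S := by rw [← hg₀]; exact inf_le_left
  have hSU : S ≤ Subgroup.normalizer (((UF F).map f₁ : Subgroup G) : Set G) := by
    intro x hx
    rw [← hg₀, Subgroup.mem_normalizer_iff]
    intro y
    rw [Subgroup.mem_inf, Subgroup.mem_inf, ← Subgroup.mem_normalizer_iff.1 (hS.le hx) y]
    constructor
    · rintro ⟨h1, h2⟩
      exact ⟨mul_mem (mul_mem hx h1) (inv_mem hx), h2⟩
    · rintro ⟨h1, h2⟩
      refine ⟨?_, h2⟩
      have := mul_mem (mul_mem (inv_mem hx) h1) hx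
      have h3 : x⁻¹ * (x * y * x⁻¹) * x = y := by group
      rwa [h3] at this
  obtain ⟨s, hs, g, hg, hA, hgen⟩ := exists_gen cF hi hS.two (by rw [hr]; exact hS.le) hSU hUS
  have hU : (UF F).map (cf f₁ s) = (UF F).map f₁ := cf_map f₁ (norm_U cF hs)
  have hcomm : ∀ c : G, (∀ y, c * f₁ y = f₁ y * c) → ∀ y, c * cf f₁ s y = cf f₁ s y * c := fun c hc y => hc _
  refine ⟨cf f₁ s, g, ⟨⟨cf_inj hi s, by rw [cf_range, hr], hS.two, hS.le, by rw [hU]; exact hg₀⟩, hg, hA,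
    fun x hx => ?_⟩⟩
  obtain ⟨m, u, hu, c, hc, hcf, e⟩ := hgen x hx
  exact ⟨m, u, hu, c, hc, hcomm c hcf, e⟩

end Fr

/-! ### The facts -/

section Facts

variable [Finite F] [CharP F 2] {G : Type*} [Group G] [Finite G] {K₀ S : Subgroup G}
  {f : ↥(chevF4.group F) →* G} {g : G} (O : Fr (F := F) f K₀ S g)

include O

theorem Fr.mem_zc {r : Fin 4 → ℤ} (hr : r ∈ KFacts.RgdCent.Star cF isType.isCartan (RGD.Pos cF isType.isCartan)) (a : F) :
    f (eF F r a) ∈ zc K₀ S := by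
  have hW : Finite CoxeterMatrix.F₄.Group := finite_W isType cF
  have hr' := KFacts.SysFree.star_pos hr
  have h1 := mem_X ((KBridge.isRoot_iff' cF).1 hr.1) a
  exact O.std.mem_zc.2 ⟨_, RGD.le_Sup hr' h1, fun u hu =>
    KFacts.SysFree.star_comm_U (sysF (K := F) cF) hr h1 hu, rfl⟩

/-- the action of `S` on `Z(S ∩ K)` -/
theorem Fr.conj_zc {u : ↥(chevF4.group F)} (hu : u ∈ UF F) {c : G} (hc : ∀ y, c * f y = f y * c) {z : G}
    (hz : z ∈ zc K₀ S) : f u * c * z * (f u * c)⁻¹ = z := by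
  obtain ⟨y, hy, hyc, rfl⟩ := O.std.mem_zc.1 hz
  rw [mul_assoc (f u), hc, ← mul_assoc (f u), ← map_mul, hyc u hu, map_mul]
  group

/-- **`C_S(Z(S ∩ K)) = f(U) C_S(K)`** -/
theorem Fr.cz_elt {x : G} (hx : x ∈ S) (hxz : x ∈ cz K₀ S) :
    ∃ u ∈ UF F, ∃ c ∈ Subgroup.centralizer (K₀ : Set G), x = f u * c := by
  obtain ⟨m, u, hu, c, hc, hcf, e⟩ := O.gen x hx
  have h1 : g ^ m ∈ Subgroup.centralizer (f.range : Set G) := by
    refine cent_of_comm O.std.inj (acts_zpow O.acts m) fun a => ?_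
    have hz := O.mem_zc (star_ρ cF) a
    have h2 := mem_cz.1 hxz _ hz
    have h3 := O.conj_zc hu hcf hz
    have h4 : (f u * c) * f (eF F ρ a) = f (eF F ρ a) * (f u * c) := by
      calc (f u * c) * f (eF F ρ a) = f u * c * f (eF F ρ a) * (f u * c)⁻¹ * (f u * c) := by group
        _ = _ := by rw [h3]
    rw [e] at h2
    have h5 : (f u * c) * (f (eF F ρ a) * g ^ m) = (f u * c) * (g ^ m * f (eF F ρ a)) := by
      rw [← mul_assoc, h4, mul_assoc, h2]
      group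
    exact mul_left_cancel h5
  rw [O.std.range] at h1
  refine ⟨u, hu, c * g ^ m, mul_mem ?_ h1, by rw [e, mul_assoc]⟩
  rw [← O.std.range, Subgroup.mem_centralizer_iff]
  rintro _ ⟨y, rfl⟩
  exact (hcf y).symm

theorem Fr.inner {x : G} (hx : x ∈ S) (hxz : x ∈ cz K₀ S) : Inner K₀ x := by
  obtain ⟨u, hu, c, hc, e⟩ := O.cz_elt hx hxz
  have hK : f u ∈ K₀ := by rw [← O.std.range]; exact ⟨u, rfl⟩
  exact ⟨c, hc, f u, hK, by rw [e]; exact Subgroup.mem_centralizer_iff.1 hc _ hK⟩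

/-- **(k0)** -/
theorem Fr.k0 {z : G} (hz : z ∈ zc K₀ S) : z * z = 1 := by
  have hW : Finite CoxeterMatrix.F₄.Group := finite_W isType cF
  obtain ⟨y, hy, hyc, rfl⟩ := O.std.mem_zc.1 hz
  rw [← map_mul, KFacts.SysFree.star_sq (sysF (K := F) cF)
    (KFacts.SysFree.center_le (sysF (K := F) cF) (hG1 cF) (noCent cF) hconn_F4 hyc), map_one]

/-- **(k1)** -/
theorem Fr.k1 {a b : G} (ha : a ∈ S) (hb : b ∈ S) (haa : a * a ∈ cz K₀ S) (hbb : b * b ∈ cz K₀ S) :
    a ∈ cz K₀ S ∨ b ∈ cz K₀ S ∨ a⁻¹ * b ∈ cz K₀ S := by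
  have hn : ((cz K₀ S).subgroupOf S).Normal := by
    constructor
    rintro ⟨x, hx⟩ hxz ⟨s, hs⟩
    rw [Subgroup.mem_subgroupOf] at hxz ⊢
    exact cz_conj O.std.le hs hxz
  have hcyc : IsCyclic (↥S ⧸ (cz K₀ S).subgroupOf S) := by
    refine ⟨⟨QuotientGroup.mk ⟨g, O.gS⟩, fun q => ?_⟩⟩
    obtain ⟨⟨x, hx⟩, rfl⟩ := QuotientGroup.mk_surjective q
    obtain ⟨m, u, hu, c, hc, hcf, e⟩ := O.gen x hx
    refine ⟨m, ?_⟩
    show (QuotientGroup.mk (⟨g, O.gS⟩ : ↥S) : ↥S ⧸ (cz K₀ S).subgroupOf S) ^ m = _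
    rw [← QuotientGroup.mk_zpow, eq_comm, QuotientGroup.eq_iff_div_mem, div_eq_mul_inv, Subgroup.mem_subgroupOf,
      Subgroup.coe_mul, Subgroup.coe_inv, Subgroup.coe_zpow]
    show x * (g ^ m)⁻¹ ∈ cz K₀ S
    rw [e, mul_inv_cancel_right, mem_cz]
    intro z hz
    have h1 := O.conj_zc hu hcf hz
    calc z * (f u * c) = (f u * c * z * (f u * c)⁻¹) * (f u * c) := by rw [h1]
      _ = f u * c * z := by group
  have key : ∀ {x : G} (hx : x ∈ S), (QuotientGroup.mk (⟨x, hx⟩ : ↥S) : ↥S ⧸ (cz K₀ S).subgroupOf S) = 1 ↔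
      x ∈ cz K₀ S := by
    intro x hx
    rw [QuotientGroup.eq_one_iff, Subgroup.mem_subgroupOf]
  have hA : (QuotientGroup.mk (⟨a, ha⟩ : ↥S) : ↥S ⧸ (cz K₀ S).subgroupOf S) * QuotientGroup.mk (⟨a, ha⟩ : ↥S) = 1 :=
    (key (mul_mem ha ha)).2 haa
  have hB : (QuotientGroup.mk (⟨b, hb⟩ : ↥S) : ↥S ⧸ (cz K₀ S).subgroupOf S) * QuotientGroup.mk (⟨b, hb⟩ : ↥S) = 1 :=
    (key (mul_mem hb hb)).2 hbb
  rcases KFacts.SysFree.cyclic_two hA hB with h1 | h1 | h1
  · exact Or.inl ((key ha).1 h1)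
  · exact Or.inr (Or.inl ((key hb).1 h1))
  · right; right
    rw [QuotientGroup.eq, Subgroup.mem_subgroupOf] at h1
    exact h1

/-- **(k3)** -/
theorem Fr.k3 (hq : 2 < Nat.card F) : FltS K₀ S (fun j => (UH cF isType.isCartan (XF F) j).map f)
    (fun j => {l | ∃ r, r ∈ RGD.Pos cF isType.isCartan ∧ ht r = j + 1 ∧ l = (XF F r).map f}) where
  zero := by
    rw [O.std.inf]
    show (UH cF isType.isCartan (XF F) 0).map f = _
    rw [UH_zero]
  bot := by
    have hW : Finite CoxeterMatrix.F₄.Group := finite_W isType cF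
    obtain ⟨n, hn⟩ := UH_bot (cs := cF) (h := isType.isCartan) (X := XF F)
    exact ⟨n, by rw [hn, Subgroup.map_bot]⟩
  le j := Subgroup.map_mono (UH_le (Nat.le_succ j))
  gen := by
    have hW : Finite CoxeterMatrix.F₄.Group := finite_W isType cF
    rintro j _ ⟨u, hu, rfl⟩
    have h1 : Subgroup.closure ({x | ∃ r, r ∈ RGD.Pos cF isType.isCartan ∧ ht r = j + 1 ∧ x ∈ XF F r} ∪
        (UH cF isType.isCartan (XF F) (j + 1) : Set _)) ≤ (Subgroup.closure ({x | ∃ l ∈ {l | ∃ r,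
          r ∈ RGD.Pos cF isType.isCartan ∧ ht r = j + 1 ∧ l = (XF F r).map f}, x ∈ l} ∪
          (((UH cF isType.isCartan (XF F) (j + 1)).map f : Subgroup G) : Set G))).comap f := by
      rw [Subgroup.closure_le]
      rintro x (⟨r, hr, hrj, hx⟩ | hx)
      · exact Subgroup.subset_closure (Or.inl ⟨_, ⟨r, hr, hrj, rfl⟩, x, hx, rfl⟩)
      · exact Subgroup.subset_closure (Or.inr ⟨x, hx, rfl⟩)
    exact h1 (UH_gen (sysF (K := F) cF) j hu)
  line_le := by
    rintro j _ ⟨r, hr, hrj, rfl⟩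
    exact Subgroup.map_mono (RGD.le_Sup (S := {r | r ∈ RGD.Pos cF isType.isCartan ∧ (j : ℤ) < ht r}) ⟨hr, by omega⟩)
  line := by
    have hW : Finite CoxeterMatrix.F₄.Group := finite_W isType cF
    rintro j _ ⟨r, hr, hrj, rfl⟩
    have hrr := (KBridge.isRoot_iff' cF).1 hr.1
    have hout : ∀ a : F, a ≠ 0 → f (eF F r a) ∉ (UH cF isType.isCartan (XF F) (j + 1)).map f := by
      rintro a ha ⟨y, hy, e⟩
      have e' := O.std.inj e
      subst e'
      exact e_ne hrr ha (X_inf_UH (sysF (K := F) cF) hr (by rw [hrj]; push_cast; exact le_rfl) (mem_X hrr a) hy)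
    refine ⟨?_, ?_, ?_⟩
    · rintro _ ⟨x, hx, rfl⟩
      obtain ⟨a, rfl⟩ := ((sysF (K := F) cF).mem_X r hr.1 x).1 hx
      rw [← map_mul, e_sq hrr, map_one]
      exact one_mem _
    · obtain ⟨b, hb0, hb1⟩ : ∃ b : F, b ≠ 0 ∧ b ≠ 1 := by
        by_contra hcon
        push Not at hcon
        classical
        have := Fintype.ofFinite F
        have h4 : (Finset.univ : Finset F) ⊆ {0, 1} := by
          intro b _
          by_cases hb : b = 0
          · simp [hb]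
          · simp [hcon b hb]
        have h5 := Finset.card_le_card h4
        have h6 : ({0, 1} : Finset F).card ≤ 2 := Finset.card_le_two
        rw [Finset.card_univ, ← Nat.card_eq_fintype_card] at h5
        omega
      have h1b : 1 + b ≠ 0 := by
        intro h4
        apply hb1
        have h5 : b + 1 = 1 + 1 := by rw [add_comm b 1, h4, CharTwo.add_self_eq_zero]
        exact add_right_cancel h5
      refine ⟨f (eF F r 1), ⟨_, mem_X hrr 1, rfl⟩, f (eF F r b), ⟨_, mem_X hrr b, rfl⟩, hout 1 one_ne_zero,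
        hout b hb0, ?_⟩
      have h1 : (f (eF F r 1))⁻¹ = f (eF F r 1) := by
        rw [← map_inv, inv_eq_of_mul_eq_one_right (e_sq hrr (1 : F))]
      rw [h1, ← map_mul, ← e_add hrr]
      exact hout _ h1b
    · rintro y hy hyz - _ ⟨x, hx, rfl⟩ hx1 hxy _ ⟨x', hx', rfl⟩
      obtain ⟨u, hu, c, hc, rfl⟩ := O.cz_elt hy hyz
      rw [← O.std.range] at hc
      have hc' : ∀ z, f z * c = c * f z := fun z => Subgroup.mem_centralizer_iff.1 hc _ ⟨z, rfl⟩
      have h1 : x ≠ 1 := by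
        rintro rfl
        exact hx1 (by rw [map_one]; exact one_mem _)
      have h2 : u * x = x * u := by
        apply O.std.inj
        rw [map_mul, map_mul]
        have h3 : f u * f x * c = f x * f u * c := by
          rw [mul_assoc, hc' x, ← mul_assoc, ← hxy, mul_assoc]
        exact mul_right_cancel h3
      have h3 := comm_all (sysF (K := F) cF) (hG1 cF) hr.1 hx h1 h2 hx'
      calc f x' * (f u * c) = f (x' * u) * c := by rw [map_mul, mul_assoc]
        _ = f u * (f x' * c) := by rw [← h3, map_mul, mul_assoc]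
        _ = f u * c * f x' := by rw [hc' x', mul_assoc]
  fix := by
    have hW : Finite CoxeterMatrix.F₄.Group := finite_W isType cF
    rintro j _ ⟨r, hr, hrj, rfl⟩ _ ⟨x, hx, rfl⟩ y hy hyz
    obtain ⟨u, hu, c, hc, rfl⟩ := O.cz_elt hy hyz
    rw [← O.std.range] at hc
    have hc' : ∀ z, f z * c = c * f z := fun z => Subgroup.mem_centralizer_iff.1 hc _ ⟨z, rfl⟩
    have h1 : f u * c * f x * (f u * c)⁻¹ * (f x)⁻¹ = f ⁅u, x⁆ := by
      rw [commutatorElement_def, map_mul, map_mul, map_mul, map_inv, map_inv]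
      calc f u * c * f x * (f u * c)⁻¹ * (f x)⁻¹ = f u * (c * f x) * c⁻¹ * (f u)⁻¹ * (f x)⁻¹ := by group
        _ = _ := by rw [← hc' x]; group
    rw [h1]
    exact ⟨_, UH_comm (sysF (K := F) cF) (by rw [UH_zero]; exact hu)
      (RGD.le_Sup (S := {r | r ∈ RGD.Pos cF isType.isCartan ∧ (j : ℤ) < ht r}) ⟨hr, by omega⟩ hx), rfl⟩

/-- **(k5), (c1)** -/
theorem Fr.k5 (hq : 2 < Nat.card F) {x : G} (hx : x ∈ S) (hxz : x ∉ cz K₀ S) :
    ∃ a ∈ zc K₀ S, ∃ b ∈ zc K₀ S, a * x ≠ x * a ∧ b * x ≠ x * b ∧ a * b * x ≠ x * (a * b) := by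
  obtain ⟨m, u, hu, c, hc, hcf, e⟩ := O.gen x hx
  -- the action on `Z(S ∩ K)` is the action of `g ^ m`
  have hact : ∀ z ∈ zc K₀ S, (z * x = x * z ↔ g ^ m * z * (g ^ m)⁻¹ = z) := by
    intro z hz
    have hgz : g ^ m * z * (g ^ m)⁻¹ ∈ zc K₀ S := zc_conj O.std.le (zpow_mem O.gS m) hz
    have h1 := O.conj_zc hu hcf hgz
    have h2 : x * z * x⁻¹ = g ^ m * z * (g ^ m)⁻¹ := by
      rw [← h1, e]; group
    rw [← h2]
    constructor
    · intro h3
      rw [← h3, mul_inv_cancel_right]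
    · intro h3
      calc z * x = (x * z * x⁻¹) * x := by rw [h3]
        _ = x * z := by group
  have hρ := fun a : F => O.mem_zc (star_ρ cF) a
  have hσ := fun a : F => O.mem_zc (star_σ cF) a
  rcases acts_iff.1 (acts_zpow O.acts m) with ⟨φ, hφ⟩ | ⟨φ, hφ⟩
  · -- field type
    obtain ⟨a, ha⟩ : ∃ a, φ a ≠ a := by
      by_contra hcon
      push Not at hcon
      apply hxz
      have h1 := comm_of_fld hφ hcon
      rw [mem_cz]
      intro z hz
      rw [hact z hz]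
      obtain ⟨y, hy, -, rfl⟩ := O.std.mem_zc.1 hz
      rw [← Subgroup.mem_centralizer_iff.1 h1 (f y) ⟨y, rfl⟩, mul_inv_cancel_right]
    refine ⟨_, hρ a, _, hσ a, ?_, ?_, ?_⟩
    · rw [ne_eq, hact _ (hρ a), hφ ρ ρ_mem]
      exact fun h => ha (e_inj ρ_mem (O.std.inj h))
    · rw [ne_eq, hact _ (hσ a), hφ σ σ_mem]
      exact fun h => ha (e_inj σ_mem (O.std.inj h))
    · rw [ne_eq, hact _ (mul_mem (hρ a) (hσ a))]
      have h1 : g ^ m * (f (eF F ρ a) * f (eF F σ a)) * (g ^ m)⁻¹ =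
          (g ^ m * f (eF F ρ a) * (g ^ m)⁻¹) * (g ^ m * f (eF F σ a) * (g ^ m)⁻¹) := by group
      rw [h1, hφ ρ ρ_mem, hφ σ σ_mem, ← map_mul, ← map_mul]
      intro h
      have h2 := O.std.inj h
      have h3 : eF F ρ (a + φ a) = eF F σ (a + φ a) := by
        rw [e_add ρ_mem, e_add σ_mem]
        have h4 : (eF F ρ a)⁻¹ = eF F ρ a := inv_eq_of_mul_eq_one_right (e_sq ρ_mem a)
        have h5 : (eF F σ (φ a))⁻¹ = eF F σ (φ a) := inv_eq_of_mul_eq_one_right (e_sq σ_mem _)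
        calc eF F ρ a * eF F ρ (φ a) = (eF F ρ a)⁻¹ * (eF F ρ (φ a) * eF F σ (φ a)) * (eF F σ (φ a))⁻¹ := by
              rw [h4]; group
          _ = (eF F ρ a)⁻¹ * (eF F ρ a * eF F σ a) * (eF F σ (φ a))⁻¹ := by rw [h2]
          _ = eF F σ a * eF F σ (φ a) := by rw [h5]; group
      have h4 := e_ind ρ_mem σ_mem ρσ h3
      apply ha
      have h5 : a + φ a = a + a := by rw [h4, CharTwo.add_self_eq_zero]
      exact add_left_cancel h5
  · -- graph type
    have hmove : ∀ a : F, a ≠ 0 → f (eF F ρ a) * x ≠ x * f (eF F ρ a) := by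
      intro a ha
      rw [ne_eq, hact _ (hρ a), hφ.1 ρ ρ_mem dρ.1, dρ.2]
      exact fun h => ha (e_ind ρ_mem σ_mem ρσ (O.std.inj h.symm))
    obtain ⟨b, hb0, hb1⟩ : ∃ b : F, b ≠ 0 ∧ b ≠ 1 := by
      by_contra hcon
      push Not at hcon
      classical
      have := Fintype.ofFinite F
      have h4 : (Finset.univ : Finset F) ⊆ {0, 1} := by
        intro b _
        by_cases hb : b = 0
        · simp [hb]
        · simp [hcon b hb]
      have h5 := Finset.card_le_card h4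
      have h6 : ({0, 1} : Finset F).card ≤ 2 := Finset.card_le_two
      rw [Finset.card_univ, ← Nat.card_eq_fintype_card] at h5
      omega
    have h1b : 1 + b ≠ 0 := by
      intro h4
      apply hb1
      have h5 : b + 1 = 1 + 1 := by rw [add_comm b 1, h4, CharTwo.add_self_eq_zero]
      exact add_right_cancel h5
    refine ⟨_, hρ 1, _, hρ b, hmove 1 one_ne_zero, hmove b hb0, ?_⟩
    rw [← map_mul, ← e_add ρ_mem]
    exact hmove _ h1b

end Facts

/-! ### End -/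

section End

variable [Finite F] [CharP F 2] {G : Type*} [Group G] [Finite G] {K₀ : Subgroup G}

/-- **`BFacts` for `F₄(q)`, `q > 2` even.** -/
theorem bfacts (hq : 2 < Nat.card F) {f : ↥(chevF4.group F) →* G} (hf : Function.Injective f) (hK : f.range = K₀) :
    BFacts K₀ where
  sq S hS z hz := by
    obtain ⟨f', g, O⟩ := exists_fr hf hK hS
    exact O.k0 hz
  cyc S hS a ha b hb haa hbb := by
    obtain ⟨f', g, O⟩ := exists_fr hf hK hS
    exact O.k1 ha hb haa hbb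
  field S S₁ hS hS₁ e he hez := field_free hS hS₁ he hez
  line := line_of_fltS fun S hS => by
    obtain ⟨f', g, O⟩ := exists_fr hf hK hS
    exact ⟨_, _, O.k3 hq⟩
  graph S hS a ha b hb haz hbz := by
    obtain ⟨f', g, O⟩ := exists_fr hf hK hS
    exact Or.inl (O.inner ha haz)
  out := Or.inl fun S hS x hx hxz => by
    obtain ⟨f', g, O⟩ := exists_fr hf hK hS
    exact O.k5 hq hx hxz

theorem bfacts_of_equiv (hq : 2 < Nat.card F) (e : ↥(chevF4.group F) ≃* ↥K₀) : BFacts K₀ :=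
  bfacts hq (f := K₀.subtype.comp e.toMonoidHom) (Subtype.val_injective.comp e.injective) (by
    rw [MonoidHom.range_comp, MonoidHom.range_eq_top.2 e.surjective, ← MonoidHom.range_eq_map, Subgroup.range_subtype])

/-- the form of `Cut.F4e` -/
theorem bfacts_of_card {F : Type} [Field F] [Fintype F] {a : ℕ} (ha : 2 ≤ a) (hF : Fintype.card F = 2 ^ a)
    {G : Type*} [Group G] [Finite G] {K₀ : Subgroup G} (e : Nonempty (↥K₀ ≃* ↥(chevF4.group F))) : BFacts K₀ := by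
  obtain ⟨p, hp⟩ := CharP.exists F
  obtain ⟨k, hprime, hcard⟩ := FiniteField.card F p
  have h2 : p = 2 := by
    have h3 : p ∣ 2 ^ a := by
      rw [← hF, hcard]
      exact dvd_pow_self p k.ne_zero
    exact (Nat.prime_dvd_prime_iff_eq hprime Nat.prime_two).1 (hprime.dvd_of_dvd_pow h3)
  subst h2
  have h4 : 2 ^ 2 ≤ 2 ^ a := Nat.pow_le_pow_right (by norm_num) ha
  exact bfacts_of_equiv (by rw [Nat.card_eq_fintype_card, hF]; omega) e.some.symm

end End

end Cfsg.Agent.OddHalf.D4.Free.F4.BFac
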